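import Cfsg.Agent.OddHalf.D4.Ree.Fact
import Cfsg.Agent.OddHalf.D4.RowL2o

/-!
# ODD half, D4, the row of the small Ree groups
-/

set_option autoImplicit false

namespace Cfsg.Agent.OddHalf.D4.Ree

open Subgroup Cfsg

universe u

/-- **The row of D4 with `K` a small Ree group.** -/
theorem row (h1173 : Cfsg.Agent.UGT.SL.P1173.{u}) : Cut.Row1.{u} (fun K _ => Cut.Reeo K) :=
  fun G _ C K S hr hz h => RowL2o.row_gam h1173 G C K S hr hz (gamAut_of_isoRee h)

end Cfsg.Agent.OddHalf.D4.Ree
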