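import Cfsg.Agent.OddHalf.D4.Ree.Gam
import Cfsg.Agent.FixBN.RankOneRee
import Cfsg.Agent.UGT.SLEnd

/-!
# ODD half, D4, the row of the small Ree groups: (Gam)
-/

set_option autoImplicit false

namespace Cfsg.Agent.OddHalf.D4.Ree

open Subgroup Cfsg
open Cfsg.Agent.LieRecognition Cfsg.Agent.LieRecognition.ReeAbs Cfsg.Agent.LieRecognition.ReeSylowThree
open Cfsg.Agent.FixBN

/-- **(Gam) for `²G₂(3^(2m+1))`.** -/
theorem gamAut_twistedG2 {K : Type*} [Field K] [Fintype K] {m : ℕ} (hm : 1 ≤ m)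
    (hK : Fintype.card K = 3 ^ (2 * m + 1)) : UGT.SL.GamAut ↥(Cfsg.Lie.twistedG2 K (3 ^ m)) := by
  classical
  have hchar := charP_three hK
  obtain ⟨U, h, n, D⟩ := Cfsg.Agent.ChevalleyStructure.Ree.Data.exists_data hK
  have hfin : Finite ↥(Cfsg.Lie.twistedG2 K (3 ^ m)) := finite D
  obtain ⟨hs, hc⟩ := Cfsg.Agent.S1073.result hm hK
  obtain ⟨a, haH, ha1, ha2⟩ := Cfsg.Agent.S1157.exists_involution hK
  obtain ⟨⟨e⟩, hS⟩ := Cfsg.Agent.S1152.result hK a haH ha1 ha2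
  have hcd := ReeCent.centData ha1 ha2 e ReePSL.klein
  have hL : IsSimpleGroup (Matrix.ProjectiveSpecialLinearGroup (Fin 2) K) := by
    apply Matrix.ProjectiveSpecialLinearGroup.rank_two_simple
    rw [Nat.card_eq_fintype_card, hK]
    have : 3 ^ 3 ≤ 3 ^ (2 * m + 1) := Nat.pow_le_pow_right (by norm_num) (by omega)
    omega
  have hcen : center ↥(Cfsg.Lie.twistedG2 K (3 ^ m)) = ⊥ := BTheorem.center_eq_bot hc
  have hinj : ∀ x y : ↥(Cfsg.Lie.twistedG2 K (3 ^ m)), MulAut.conj x = MulAut.conj y → x = y := by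
    intro x y hxy
    have h1 : y⁻¹ * x ∈ center ↥(Cfsg.Lie.twistedG2 K (3 ^ m)) := by
      rw [mem_center_iff]
      intro g
      have h2 : x * g * x⁻¹ = y * g * y⁻¹ := DFunLike.congr_fun hxy g
      calc g * (y⁻¹ * x) = y⁻¹ * (y * g * y⁻¹) * x := by group
        _ = y⁻¹ * (x * g * x⁻¹) * x := by rw [h2]
        _ = y⁻¹ * x * g := by group
    rw [hcen, mem_bot] at h1
    exact (inv_mul_eq_one.1 h1).symm
  intro α β hα hβ hα1 hβ1 hne hcomm H h1 h2 h3
  obtain ⟨x, rfl⟩ := RankOneRee.inner hm hK D α hα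
  obtain ⟨y, rfl⟩ := RankOneRee.inner hm hK D β hβ
  have hfix : ∀ z c : ↥(Cfsg.Lie.twistedG2 K (3 ^ m)), c * z = z * c → MulAut.conj z c = c := by
    intro z c hzc
    rw [MulAut.conj_apply, ← hzc, mul_inv_cancel_right]
  refine eq_top hcd ReePSL.klein (Cfsg.Agent.S1116.result hK hm) hS (x := x) (y := y) ?_ ?_ ?_ ?_ ?_ ?_ ?_ ?_ ?_
  · apply hinj
    rw [map_mul, hα, map_one]
  · rintro rfl
    exact hα1 (map_one _)
  · apply hinj
    rw [map_mul, hβ, map_one]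
  · rintro rfl
    exact hβ1 (map_one _)
  · apply hinj
    rw [map_mul, hcomm, map_mul]
  · rintro rfl
    exact hne rfl
  · intro c hc
    exact h1 c (hfix x c hc)
  · intro c hc
    exact h2 c (hfix y c hc)
  · intro c hc
    apply h3 c
    rw [← MulAut.mul_apply, ← map_mul]
    exact hfix (x * y) c hc

/-- **(Gam) for the small Ree groups.** -/
theorem gamAut_of_isoRee {X : Type*} [Group X] (h : Cfsg.Lie.IsoRee X) : UGT.SL.GamAut X := by
  obtain ⟨K, _, _, m, hm, hK, ⟨e⟩⟩ := h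
  exact (gamAut_twistedG2 hm hK).congr e.symm

end Cfsg.Agent.OddHalf.D4.Ree
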