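import Cfsg.Agent.LieRecognition.ReeInv
import Cfsg.Agent.StrongEmb.Strong
import Cfsg.Agent.OddHalf.D4.SeCore

/-!
# ODD half, D4, the row of the small Ree groups: (Gam), abstract part

`eq_top`: `X` simple with `C(a) = ⟨a⟩ × f(L)`, `L` simple, elementary abelian Sylow 2-subgroups of order 8: a
subgroup containing the centralizers of `x`, `y`, `x y` (commuting involutions) is the whole group.
-/

set_option autoImplicit false

namespace Cfsg.Agent.OddHalf.D4.Ree

open Subgroup Cfsg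
open Cfsg.Agent.LieRecognition.ReeInv Cfsg.Agent.TwoFusion.StronglyEmbeddedBasic

variable {X : Type*} [Group X] [Finite X] {L : Type*} [Group L] {a : X} {f : L →* X} {i j u : L}

/-- a subgroup containing the centralizers of the involutions of `S8` contains the normalizer -/
theorem normalizer_le (hc : CentData X L a f) (hk : KleinData L i j u) (hX : commutator X = ⊤)
    (h8 : Nat.card (S8 a f i j) = 8) (h16 : ¬ 16 ∣ Nat.card X) (S : Sylow 2 X)
    (hS : (S : Subgroup X) = S8 a f i j) {H : Subgroup X}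
    (hH : ∀ s ∈ S8 a f i j, s ≠ 1 → ∀ c, c * s = s * c → c ∈ H) :
    normalizer (S8 a f i j : Set X) ≤ H := by
  obtain ⟨h168, htr⟩ := main_S8 hc hk hX h8 h16 S hS
  have h24 := card_normalizer_inf hc hk h8 h16
  have huN := fu_mem_normalizer hc hk
  set N := normalizer (S8 a f i j : Set X) with hN
  have hle : N ⊓ centralizer {a} ≤ N ⊓ H := by
    intro x hx
    exact ⟨hx.1, hH a (a_mem_S8 hc) hc.ne_one x (mem_centralizer_singleton_iff.1 hx.2)⟩
  have h1 : 24 ∣ Nat.card ↥(N ⊓ H) := by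
    rw [← h24]; exact card_dvd_of_le hle
  have h2 : Nat.card ↥(N ⊓ H) ∣ 24 * 7 := by
    have := card_dvd_of_le (inf_le_left : N ⊓ H ≤ N)
    rwa [h168] at this
  obtain ⟨k, hk'⟩ := h1
  rw [hk'] at h2
  have h3 : k ∣ 7 := Nat.dvd_of_mul_dvd_mul_left (by norm_num) h2
  rcases (Nat.dvd_prime (by norm_num : Nat.Prime 7)).1 h3 with h4 | h4
  · exfalso
    rw [h4, mul_one] at hk'
    have hfi : f i ∈ S8 a f i j := (mem_S8_f hc hk).2 (Or.inr (Or.inl rfl))
    have hfi1 : f i ≠ 1 := by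
      intro h
      apply hk.i_ne
      apply hc.inj
      rw [h, map_one]
    obtain ⟨n, hn, hna⟩ := htr _ hfi hfi1
    -- `N ∩ C(f i)`
    have h5 : (N ⊓ centralizer {a}).map (MulAut.conj n).toMonoidHom ≤ N ⊓ H := by
      rintro _ ⟨x, hx, rfl⟩
      have h6 : x * a = a * x := mem_centralizer_singleton_iff.1 hx.2
      have h7 : n * x * n⁻¹ * f i = f i * (n * x * n⁻¹) := by
        rw [← hna]
        calc n * x * n⁻¹ * (n * a * n⁻¹) = n * (x * a) * n⁻¹ := by group
          _ = n * (a * x) * n⁻¹ := by rw [h6]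
          _ = n * a * n⁻¹ * (n * x * n⁻¹) := by group
      exact ⟨N.mul_mem (N.mul_mem hn hx.1) (N.inv_mem hn), hH _ hfi hfi1 _ h7⟩
    have h6 : (N ⊓ centralizer {a}).map (MulAut.conj n).toMonoidHom = N ⊓ H :=
      eq_of_le_of_card_ge h5 (by
        rw [card_map_of_injective (MulAut.conj n).injective, hk', h24])
    have h7 : f u ∈ N ⊓ H :=
      ⟨huN, hH a (a_mem_S8 hc) hc.ne_one _ (hc.comm u).symm⟩
    rw [← h6] at h7
    obtain ⟨x, hx, hxu⟩ := h7
    have h8' : x * a = a * x := mem_centralizer_singleton_iff.1 hx.2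
    have hxu' : n * x * n⁻¹ = f u := hxu
    have h9 : f u * f i = f i * f u := by
      rw [← hxu', ← hna]
      calc n * x * n⁻¹ * (n * a * n⁻¹) = n * (x * a) * n⁻¹ := by group
        _ = n * (a * x) * n⁻¹ := by rw [h8']
        _ = n * a * n⁻¹ * (n * x * n⁻¹) := by group
    have h10 : u * i = i * u := hc.inj (by rw [map_mul, h9, map_mul])
    apply hk.ne
    rw [← hk.uiu, h10, mul_inv_cancel_right]
  · have h5 : N ⊓ H = N := by
      apply eq_of_le_of_card_ge inf_le_left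
      rw [hk', h4, h168]
    intro x hx
    have : x ∈ N ⊓ H := by rw [h5]; exact hx
    exact this.2

/-- the hypotheses at the involution `a` -/
structure At (H : Subgroup X) (a : X) (f : L →* X) (i j u : L) (S : Sylow 2 X) : Prop where
  hc : CentData X L a f
  hk : KleinData L i j u
  hX : commutator X = ⊤
  h8 : Nat.card (S8 a f i j) = 8
  h16 : ¬ 16 ∣ Nat.card X
  hS : (S : Subgroup X) = S8 a f i j
  hH : ∀ s ∈ S8 a f i j, s ≠ 1 → ∀ c, c * s = s * c → c ∈ H

namespace At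

variable {H : Subgroup X} {S : Sylow 2 X}

theorem le (h : At H a f i j u S) : (S : Subgroup X) ≤ H := by
  intro x hx
  rw [h.hS] at hx
  exact h.hH a (a_mem_S8 h.hc) h.hc.ne_one x (mem_S8.1 hx).1

theorem a_mem (h : At H a f i j u S) : a ∈ H := h.hH a (a_mem_S8 h.hc) h.hc.ne_one a rfl

theorem f_mem (h : At H a f i j u S) (l : L) : f l ∈ H :=
  h.hH a (a_mem_S8 h.hc) h.hc.ne_one _ (h.hc.comm l).symm

/-- all the involutions of `H` are conjugate to `a` in `H` -/
theorem exists_conj (h : At H a f i j u S) {t : X} (ht : t ∈ H) (ht1 : t ≠ 1) (ht2 : t * t = 1) :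
    ∃ g ∈ H, g * a * g⁻¹ = t := by
  have hp2 : Fact (Nat.Prime 2) := ⟨Nat.prime_two⟩
  have hp : IsPGroup 2 ↥(zpowers (⟨t, ht⟩ : ↥H)) := by
    apply IsPGroup.of_card (n := 1)
    rw [Nat.card_zpowers, pow_one]
    apply orderOf_eq_prime
    · rw [pow_two]; exact Subtype.ext ht2
    · intro h1; exact ht1 (congrArg Subtype.val h1)
  obtain ⟨Q, hQ⟩ := hp.exists_le_sylow
  obtain ⟨g, hg⟩ := MulAction.exists_smul_eq ↥H (S.subtype h.le) Q
  have h1 : (g : X)⁻¹ * t * g ∈ (S : Subgroup X) := by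
    have h2 : (⟨t, ht⟩ : ↥H) ∈ (Q : Subgroup ↥H) := hQ (mem_zpowers _)
    rw [← hg, Sylow.coe_subgroup_smul, Subgroup.mem_pointwise_smul_iff_inv_smul_mem] at h2
    have h3 : (g⁻¹ * ⟨t, ht⟩ * g : ↥H) ∈ ((S.subtype h.le : Sylow 2 ↥H) : Subgroup ↥H) := by
      simpa [MulAut.smul_def] using h2
    exact h3
  rw [h.hS] at h1
  obtain ⟨n, hn, hna⟩ := (main_S8 h.hc h.hk h.hX h.h8 h.h16 S h.hS).2 _ h1 (by
    intro h2
    apply ht1
    calc t = g * ((g : X)⁻¹ * t * g) * (g : X)⁻¹ := by group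
      _ = 1 := by rw [h2]; group)
  refine ⟨g * n, H.mul_mem g.2 (normalizer_le h.hc h.hk h.hX h.h8 h.h16 S h.hS h.hH hn), ?_⟩
  calc (g : X) * n * a * ((g : X) * n)⁻¹ = g * (n * a * n⁻¹) * (g : X)⁻¹ := by group
    _ = t := by rw [hna]; group

theorem isStronglyEmbedded (h : At H a f i j u S) (hne : H ≠ ⊤) : IsStronglyEmbedded H := by
  refine ⟨hne, ?_, ?_⟩
  · have h1 : orderOf (⟨a, h.a_mem⟩ : ↥H) = 2 := by
      apply orderOf_eq_prime
      · rw [pow_two]; exact Subtype.ext h.hc.sq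
      · intro h1; exact h.hc.ne_one (congrArg Subtype.val h1)
    rw [even_iff_two_dvd, ← h1]
    exact orderOf_dvd_natCard _
  · intro g hg
    by_contra hodd
    rw [Nat.not_odd_iff_even, even_iff_two_dvd] at hodd
    have hp2 : Fact (Nat.Prime 2) := ⟨Nat.prime_two⟩
    obtain ⟨⟨t, ht⟩, ht2⟩ := exists_prime_orderOf_dvd_card' 2 hodd
    have ht2' : t * t = 1 := by
      have h1 := pow_orderOf_eq_one (⟨t, ht⟩ : ↥(H ⊓ H.map (MulAut.conj g).toMonoidHom))
      rw [ht2, pow_two] at h1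
      exact congrArg Subtype.val h1
    have ht1 : t ≠ 1 := by
      rintro rfl
      have : orderOf (⟨1, ht⟩ : ↥(H ⊓ H.map (MulAut.conj g).toMonoidHom)) = 1 := orderOf_eq_one_iff.2 rfl
      omega
    obtain ⟨htH, t', ht', he⟩ := ht
    have he' : g * t' * g⁻¹ = t := he
    have ht'2 : t' * t' = 1 := by
      have h1 : t' = g⁻¹ * t * g := by rw [← he']; group
      rw [h1]
      calc g⁻¹ * t * g * (g⁻¹ * t * g) = g⁻¹ * (t * t) * g := by group
        _ = 1 := by rw [ht2']; group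
    have ht'1 : t' ≠ 1 := by
      rintro rfl
      apply ht1
      rw [← he']; group
    obtain ⟨d1, hd1, h1⟩ := h.exists_conj htH ht1 ht2'
    obtain ⟨d2, hd2, h2⟩ := h.exists_conj ht' ht'1 ht'2
    apply hg
    have h3 : d1⁻¹ * g * d2 ∈ H := by
      apply h.hH a (a_mem_S8 h.hc) h.hc.ne_one
      have h4 : g * (d2 * a * d2⁻¹) * g⁻¹ = d1 * a * d1⁻¹ := by rw [h2, he', h1]
      calc d1⁻¹ * g * d2 * a = d1⁻¹ * (g * (d2 * a * d2⁻¹) * g⁻¹) * g * d2 := by group
        _ = d1⁻¹ * (d1 * a * d1⁻¹) * g * d2 := by rw [h4]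
        _ = a * (d1⁻¹ * g * d2) := by group
    have h4 : g = d1 * (d1⁻¹ * g * d2) * d2⁻¹ := by group
    rw [h4]
    exact H.mul_mem (H.mul_mem hd1 h3) (H.inv_mem hd2)

/-- **`H` is everything.** -/
theorem eq_top [IsSimpleGroup X] [IsSimpleGroup L] (h : At H a f i j u S) : H = ⊤ := by
  by_contra hne
  have hSE := h.isStronglyEmbedded hne
  have hp2 : Fact (Nat.Prime 2) := ⟨Nat.prime_two⟩
  have hna : ∃ x y : X, x * y ≠ y * x := by
    by_contra hcon
    push Not at hcon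
    have h1 : f u * f i = f i * f u := hcon _ _
    have h10 : u * i = i * u := h.hc.inj (by rw [map_mul, h1, map_mul])
    apply h.hk.ne
    rw [← h.hk.uiu, h10, mul_inv_cancel_right]
  obtain ⟨Q, hs, hQ⟩ := Cfsg.Agent.StrongEmb.Strong.exists_isSplit hna H hSE
  obtain ⟨z, -, hz⟩ := exists_involution hSE
  obtain ⟨P, hPQ, -, b, hb, -, -, hb2, -, -⟩ := SeCore.exists_sylow hSE hs hQ
    (Cfsg.Agent.StrongEmb.Simple.commPair_of_simple hna hz)
  have hbQ : b ∈ Q := by rw [← hPQ]; exact hb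
  have hnorm : ∀ g ∈ H, ∀ x ∈ Q, g * x * g⁻¹ ∈ Q := by
    intro g hg x hx
    have h1 := hs.normal.conj_mem ⟨x, hs.le hx⟩ (mem_subgroupOf.mpr hx) ⟨g, hg⟩
    exact mem_subgroupOf.mp h1
  have hbb : b * b = 1 := by rw [← pow_two, ← hb2, pow_orderOf_eq_one]
  have hb1 : b ≠ 1 := by
    rintro rfl
    rw [orderOf_one] at hb2
    omega
  obtain ⟨g, hg, hgb⟩ := h.exists_conj (hs.le hbQ) hb1 hbb
  have haQ : a ∈ Q := by
    have h1 := hnorm g⁻¹ (H.inv_mem hg) b hbQ
    rw [← hgb] at h1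
    have h2 : g⁻¹ * (g * a * g⁻¹) * g⁻¹⁻¹ = a := by group
    rwa [h2] at h1
  have hi1 : f i ≠ 1 := by
    intro h1
    apply h.hk.i_ne
    apply h.hc.inj
    rw [h1, map_one]
  obtain ⟨g', hg', hgi⟩ := h.exists_conj (h.f_mem i) hi1 (by rw [← map_mul, h.hk.ii, map_one])
  have hiQ : f i ∈ Q := by
    rw [← hgi]
    exact hnorm g' hg' a haQ
  have hn : (Q.comap f).Normal := ⟨by
    intro x hx g
    rw [mem_comap] at hx ⊢
    rw [map_mul, map_mul, map_inv]
    exact hnorm _ (h.f_mem g) _ hx⟩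
  have htop : Q.comap f = ⊤ := by
    rcases hn.eq_bot_or_eq_top with h1 | h1
    · exfalso
      have h2 : i ∈ Q.comap f := hiQ
      rw [h1, mem_bot] at h2
      exact h.hk.i_ne h2
    · exact h1
  have hfin : Finite L := Finite.of_injective f h.hc.inj
  have hL : IsPGroup 2 L := by
    intro l
    have h1 : f l ∈ Q := by
      have : l ∈ Q.comap f := by rw [htop]; trivial
      exact this
    obtain ⟨k, hk⟩ := hQ ⟨f l, h1⟩
    refine ⟨k, h.hc.inj ?_⟩
    rw [map_pow, map_one]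
    exact congrArg Subtype.val hk
  have hcen : Nontrivial ↥(center L) := hL.center_nontrivial
  have hcen' : center L = ⊤ := by
    rcases (inferInstance : (center L).Normal).eq_bot_or_eq_top with h1 | h1
    · exfalso
      rw [h1] at hcen
      exact not_subsingleton ↥(⊥ : Subgroup L) inferInstance
    · exact h1
  have h10 : u * i = i * u := by
    have h1 : i ∈ center L := by rw [hcen']; trivial
    exact mem_center_iff.1 h1 u
  apply h.hk.ne
  rw [← h.hk.uiu, h10, mul_inv_cancel_right]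

end At

/-- **(Gam).** -/
theorem eq_top [IsSimpleGroup X] [IsSimpleGroup L] (hc : CentData X L a f) (hk : KleinData L i j u)
    (hX : commutator X = ⊤) (hS8 : ∀ S : Sylow 2 X, Nat.card S = 8 ∧ ∀ x ∈ S, x * x = 1) {x y : X}
    (hx : x * x = 1) (hx1 : x ≠ 1) (hy : y * y = 1) (hy1 : y ≠ 1) (hxy : x * y = y * x) (hne : x ≠ y)
    {H : Subgroup X} (h1 : ∀ c, c * x = x * c → c ∈ H) (h2 : ∀ c, c * y = y * c → c ∈ H)
    (h3 : ∀ c, c * (x * y) = x * y * c → c ∈ H) : H = ⊤ := by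
  have hp2 : Fact (Nat.Prime 2) := ⟨Nat.prime_two⟩
  -- a Sylow subgroup containing `x`, `y`
  obtain ⟨S, hxS, hyS⟩ : ∃ S : Sylow 2 X, x ∈ S ∧ y ∈ S := by
    have hzx : IsPGroup 2 ↥(zpowers x) := IsPGroup.of_card (n := 1) (by
      rw [Nat.card_zpowers, pow_one]; exact orderOf_eq_prime (by rw [pow_two, hx]) hx1)
    have hzy : IsPGroup 2 ↥(zpowers y) := IsPGroup.of_card (n := 1) (by
      rw [Nat.card_zpowers, pow_one]; exact orderOf_eq_prime (by rw [pow_two, hy]) hy1)
    have hsup : IsPGroup 2 ↥(zpowers x ⊔ zpowers y) := by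
      apply hzx.to_sup_of_normal_left' hzy
      rw [zpowers_le]
      apply mem_normalizer_of_forall
      rintro _ ⟨m, rfl⟩
      have hc : Commute y (x ^ m) := (show Commute y x from hxy.symm).zpow_right m
      show y * x ^ m * y⁻¹ ∈ _
      rw [hc.eq, mul_inv_cancel_right]
      exact ⟨m, rfl⟩
    obtain ⟨S, hS⟩ := hsup.exists_le_sylow
    exact ⟨S, hS (mem_sup_left (mem_zpowers x)), hS (mem_sup_right (mem_zpowers y))⟩
  have h16 := not_sixteen_dvd (G := X) fun S => (hS8 S).1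
  obtain ⟨g, hg⟩ := exists_conj_sylow hc hk (fun S => (hS8 S).2) S
  have hc1 := hc.conj g
  have h8 : Nat.card (S8 (g * a * g⁻¹) ((MulAut.conj g).toMonoidHom.comp f) i j) = 8 := by
    rw [← hg]; exact (hS8 S).1
  obtain ⟨n, hn, hnx⟩ := (main_S8 hc1 hk hX h8 h16 S hg).2 x (by rw [← hg]; exact hxS) hx1
  have hc2 := hc1.conj n
  rw [hnx] at hc2
  set f' : L →* X := (MulAut.conj n).toMonoidHom.comp ((MulAut.conj g).toMonoidHom.comp f) with hf'
  have hSx : (S : Subgroup X) = S8 x f' i j := by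
    apply sylow_eq_S8 hc2 hk S (hS8 S).2
    intro z hz
    have hz' : n⁻¹ * z * n ∈ (S : Subgroup X) := by
      rw [hg]
      rw [mem_S8] at hz ⊢
      have key : ∀ y : X, z * (n * y * n⁻¹) = n * y * n⁻¹ * z → n⁻¹ * z * n * y = y * (n⁻¹ * z * n) := by
        intro y hy
        calc n⁻¹ * z * n * y = n⁻¹ * (z * (n * y * n⁻¹)) * n := by group
          _ = n⁻¹ * (n * y * n⁻¹ * z) * n := by rw [hy]
          _ = _ := by group
      refine ⟨key _ ?_, key _ hz.2.1, key _ hz.2.2⟩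
      rw [hnx]; exact hz.1
    have h4 : n * (n⁻¹ * z * n) * n⁻¹ ∈ (S : Subgroup X) := by
      rw [hg] at hz' ⊢
      exact (mem_normalizer_iff.1 hn _).1 hz'
    have h5 : n * (n⁻¹ * z * n) * n⁻¹ = z := by group
    rwa [h5] at h4
  have h8' : Nat.card (S8 x f' i j) = 8 := by rw [← hSx]; exact (hS8 S).1
  -- the centralizers of all the involutions of `S`
  have hfH : ∀ l, f' l ∈ H := fun l => h1 _ (hc2.comm l).symm
  have hrot : ∀ w, ((∀ c, c * f' w = f' w * c → c ∈ H) ∧ (∀ c, c * (x * f' w) = x * f' w * c → c ∈ H)) →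
      ((∀ c, c * f' (u * w * u⁻¹) = f' (u * w * u⁻¹) * c → c ∈ H) ∧
        (∀ c, c * (x * f' (u * w * u⁻¹)) = x * f' (u * w * u⁻¹) * c → c ∈ H)) := by
    rintro w ⟨hw1, hw2⟩
    have hback : ∀ c, (f' u)⁻¹ * c * f' u ∈ H → c ∈ H := by
      intro c h
      have h4 := H.mul_mem (H.mul_mem (hfH u) h) (H.inv_mem (hfH u))
      have h5 : f' u * ((f' u)⁻¹ * c * f' u) * (f' u)⁻¹ = c := by group
      rwa [h5] at h4
    have hxu : x * f' u = f' u * x := hc2.comm u
    constructor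
    · intro c h
      apply hback
      apply hw1
      rw [map_mul, map_mul, map_inv] at h
      calc (f' u)⁻¹ * c * f' u * f' w = (f' u)⁻¹ * (c * (f' u * f' w * (f' u)⁻¹)) * f' u := by group
        _ = (f' u)⁻¹ * (f' u * f' w * (f' u)⁻¹ * c) * f' u := by rw [h]
        _ = f' w * ((f' u)⁻¹ * c * f' u) := by group
    · intro c h
      apply hback
      apply hw2
      have h6 : x * f' (u * w * u⁻¹) = f' u * (x * f' w) * (f' u)⁻¹ := by
        rw [map_mul, map_mul, map_inv]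
        calc x * (f' u * f' w * (f' u)⁻¹) = (x * f' u) * f' w * (f' u)⁻¹ := by group
          _ = (f' u * x) * f' w * (f' u)⁻¹ := by rw [hxu]
          _ = _ := by group
      rw [h6] at h
      calc (f' u)⁻¹ * c * f' u * (x * f' w) = (f' u)⁻¹ * (c * (f' u * (x * f' w) * (f' u)⁻¹)) * f' u := by group
        _ = (f' u)⁻¹ * (f' u * (x * f' w) * (f' u)⁻¹ * c) * f' u := by rw [h]
        _ = x * f' w * ((f' u)⁻¹ * c * f' u) := by group
  obtain ⟨v, hv, hv1, hvP⟩ : ∃ v, InV i j v ∧ v ≠ 1 ∧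
      ((∀ c, c * f' v = f' v * c → c ∈ H) ∧ (∀ c, c * (x * f' v) = x * f' v * c → c ∈ H)) := by
    have hyS' : y ∈ S8 x f' i j := by rw [← hSx]; exact hyS
    obtain ⟨v, hv, hyv | hyv⟩ := (mem_S8_iff hc2 hk).1 hyS'
    · refine ⟨v, hv, ?_, ?_, ?_⟩
      · rintro rfl
        apply hy1
        rw [hyv, map_one]
      · rw [← hyv]; exact h2
      · rw [← hyv]; exact h3
    · have h4 : f' v = x * y := by
        rw [hyv, ← mul_assoc, hx, one_mul]
      refine ⟨v, hv, ?_, ?_, ?_⟩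
      · rintro rfl
        apply hne
        rw [hyv, map_one, mul_one]
      · rw [h4]; exact h3
      · rw [← hyv]; exact h2
  have hij : ((∀ c, c * f' i = f' i * c → c ∈ H) ∧ (∀ c, c * (x * f' i) = x * f' i * c → c ∈ H)) := by
    rcases hv with rfl | rfl | rfl | rfl
    · exact absurd rfl hv1
    · exact hvP
    · have h4 := hrot _ (hrot _ hvP)
      rwa [hk.uju, hk.uiju] at h4
    · have h4 := hrot _ hvP
      rwa [hk.uiju] at h4
  have hjj := hrot _ hij
  rw [hk.uiu] at hjj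
  have hkk := hrot _ hjj
  rw [hk.uju] at hkk
  refine At.eq_top (a := x) (f := f') (i := i) (j := j) (u := u) (S := S)
    ⟨hc2, hk, hX, h8', h16, hSx, ?_⟩
  intro s hs hs1 c hcs
  obtain ⟨w, hw, rfl | rfl⟩ := (mem_S8_iff hc2 hk).1 hs
  · rcases hw with rfl | rfl | rfl | rfl
    · exact absurd (map_one f') hs1
    · exact hij.1 c hcs
    · exact hjj.1 c hcs
    · exact hkk.1 c hcs
  · rcases hw with rfl | rfl | rfl | rfl
    · rw [map_one, mul_one] at hcs
      exact h1 c hcs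
    · exact hij.2 c hcs
    · exact hjj.2 c hcs
    · exact hkk.2 c hcs

end Cfsg.Agent.OddHalf.D4.Ree
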